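import Mathlib
import Groth.Agent.FSAdic.PowerSeries
import Groth.Agent.CAlgReg.Basic

/-! Power series rings in finitely many variables: adic completeness, regularity, surjectivity and
bijectivity criteria for maps out of them. -/

set_option autoImplicit false
set_option linter.style.haveILetI false

namespace Groth.Agent.MvPSLib

open MvPowerSeries Groth.Agent.FSAdic

universe u

variable {A : Type*} [CommRing A] {n : ℕ}

theorem coeff_eq_zero_of_mem_pow : ∀ {N : ℕ} {p : MvPowerSeries (Fin n) A}, p ∈ augIdeal A n ^ N →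
    ∀ d : Fin n →₀ ℕ, Finsupp.degree d < N → coeff d p = 0 := by
  classical
  intro N
  induction N with
  | zero => intro p _ d hd; omega
  | succ N ih =>
    intro p hp
    rw [pow_succ] at hp
    refine Submodule.mul_induction_on hp (fun a ha b hb d hd => ?_) (fun a b ha hb d hd => ?_)
    · rw [coeff_mul]
      refine Finset.sum_eq_zero fun x hx => ?_
      rw [Finset.HasAntidiagonal.mem_antidiagonal] at hx
      by_cases h2 : x.2 = 0
      · rw [h2, coeff_zero_eq_constantCoeff_apply, show constantCoeff b = 0 from hb, mul_zero]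
      · have h3 : Finsupp.degree x.2 ≠ 0 := fun h => h2 ((Finsupp.degree_eq_zero_iff _).1 h)
        rw [← hx, map_add] at hd
        rw [ih ha x.1 (by omega), zero_mul]
    · rw [map_add, ha d hd, hb d hd, add_zero]

theorem mem_augIdeal_pow_iff {N : ℕ} {p : MvPowerSeries (Fin n) A} :
    p ∈ augIdeal A n ^ N ↔ ∀ d : Fin n →₀ ℕ, Finsupp.degree d < N → coeff d p = 0 :=
  ⟨coeff_eq_zero_of_mem_pow, fun h => augIdeal_eq_span (A := A) (n := n) ▸ mem_spanX_pow h⟩

instance isAdicComplete : IsAdicComplete (augIdeal A n) (MvPowerSeries (Fin n) A) where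
  haus' x hx := by
    ext d
    have := hx (Finsupp.degree d + 1)
    rw [SModEq.zero, smul_eq_mul, Ideal.mul_top] at this
    rw [map_zero]
    exact coeff_eq_zero_of_mem_pow this d (by omega)
  prec' f hf := by
    let g : MvPowerSeries (Fin n) A := fun d => coeff d (f (Finsupp.degree d + 1))
    refine ⟨g, fun N => ?_⟩
    rw [SModEq.sub_mem, smul_eq_mul, Ideal.mul_top, mem_augIdeal_pow_iff]
    intro d hd
    rw [map_sub, sub_eq_zero, show coeff d g = coeff d (f (Finsupp.degree d + 1)) from rfl]
    have h1 := hf (m := Finsupp.degree d + 1) (n := N) (by omega)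
    rw [SModEq.sub_mem, smul_eq_mul, Ideal.mul_top] at h1
    have h2 := coeff_eq_zero_of_mem_pow h1 d (by omega)
    rw [map_sub, sub_eq_zero] at h2
    exact h2.symm

theorem maximalIdeal_eq {K : Type*} [Field K] :
    IsLocalRing.maximalIdeal (MvPowerSeries (Fin n) K) = augIdeal K n := by
  ext p
  rw [IsLocalRing.mem_maximalIdeal, mem_nonunits_iff, MvPowerSeries.isUnit_iff_constantCoeff,
    isUnit_iff_ne_zero, not_not]
  rfl

/-- A map out of a power series ring is surjective if it is so modulo the ideal of the variables. -/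
theorem surjective_of_mod {B : Type*} [CommRing B] (f : MvPowerSeries (Fin n) A →+* B)
    [IsHausdorff ((augIdeal A n).map f) B]
    (h : ∀ b : B, ∃ a : A, b - f (C a) ∈ (augIdeal A n).map f) : Function.Surjective f := by
  refine surjective_of_mk_map_comp_surjective (I := augIdeal A n) f fun y => ?_
  obtain ⟨b, rfl⟩ := Ideal.Quotient.mk_surjective y
  obtain ⟨a, ha⟩ := h b
  exact ⟨C a, (Ideal.Quotient.eq.2 ha).symm⟩

/-- An endomorphism of a power series ring in finitely many variables hitting all variables is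
bijective. -/
theorem bijective_of_span (φ : MvPowerSeries (Fin n) A →ₐ[A] MvPowerSeries (Fin n) A)
    (h : (augIdeal A n).map φ = augIdeal A n) : Function.Bijective φ := by
  classical
  haveI : IsHausdorff ((augIdeal A n).map φ.toRingHom) (MvPowerSeries (Fin n) A) := by
    change IsHausdorff ((augIdeal A n).map φ) _
    rw [h]; infer_instance
  have hC : ∀ a : A, φ (C a) = C a := φ.commutes
  have hsurj : Function.Surjective φ := surjective_of_mod φ.toRingHom fun b =>
    ⟨constantCoeff b, by
      change b - φ (C (constantCoeff b)) ∈ (augIdeal A n).map φ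
      rw [h, hC, RingHom.mem_ker, map_sub, constantCoeff_C, sub_self]⟩
  refine ⟨(injective_iff_map_eq_zero φ).2 fun p hp => ?_, hsurj⟩
  refine IsHausdorff.haus' (I := augIdeal A n) p fun N => ?_
  rw [SModEq.zero, smul_eq_mul, Ideal.mul_top]
  set J := augIdeal A n ^ N with hJ
  have hle : J ≤ J.comap φ := by
    rw [← Ideal.map_le_iff_le_comap, hJ, Ideal.map_pow, h]
  let ψ : (MvPowerSeries (Fin n) A ⧸ J) →ₐ[A] (MvPowerSeries (Fin n) A ⧸ J) :=
    Ideal.quotientMapₐ J φ hle
  haveI : Module.Finite A (MvPowerSeries (Fin n) A ⧸ J) := by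
    have hfin : {d : Fin n →₀ ℕ | Finsupp.degree d < N}.Finite :=
      (Finsupp.finite_of_degree_le N).subset fun d (hd : Finsupp.degree d < N) => hd.le
    refine ⟨⟨hfin.toFinset.image (fun d => Ideal.Quotient.mk J (monomial d (1 : A))), ?_⟩⟩
    rw [eq_top_iff]
    rintro y -
    obtain ⟨q, rfl⟩ := Ideal.Quotient.mk_surjective y
    rw [Ideal.Quotient.mk_eq_mk_iff_sub_mem _ _ |>.2 (sub_truncTotal_mem N q)]
    rw [(truncTotal N q).as_sum, ← MvPolynomial.coeToMvPowerSeries.ringHom_apply, map_sum, map_sum]
    refine Submodule.sum_mem _ fun d hd => ?_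
    have hdN : Finsupp.degree d < N := by
      rw [MvPolynomial.mem_support_iff, coeff_truncTotal_eq_ite] at hd
      by_contra hcon
      rw [if_neg hcon] at hd
      exact hd rfl
    rw [MvPolynomial.coeToMvPowerSeries.ringHom_apply, MvPolynomial.coe_monomial,
      show monomial d (MvPolynomial.coeff d (truncTotal N q)) =
        (MvPolynomial.coeff d (truncTotal N q)) • monomial d (1 : A) by
          rw [← map_smul, smul_eq_mul, mul_one],
      ← Ideal.Quotient.mkₐ_eq_mk A, map_smul]
    refine Submodule.smul_mem _ _ (Submodule.subset_span ?_)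
    rw [Finset.coe_image]
    exact ⟨d, by simpa using hdN, rfl⟩
  have hψ : Function.Surjective ψ := fun y => by
    obtain ⟨q, rfl⟩ := Ideal.Quotient.mk_surjective y
    obtain ⟨r, rfl⟩ := hsurj q
    exact ⟨Ideal.Quotient.mk J r, rfl⟩
  have hinj := OrzechProperty.injective_of_surjective_endomorphism ψ.toLinearMap hψ
  rw [← Ideal.Quotient.eq_zero_iff_mem]
  refine hinj ?_
  rw [map_zero]
  show Ideal.Quotient.mk J (φ p) = 0
  rw [hp, map_zero]

variable (K : Type u) [Field K]

theorem le_ringKrullDim : ∀ m : ℕ, (m : WithBot ℕ∞) ≤ ringKrullDim (MvPowerSeries (Fin m) K) := by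
  intro m
  induction m with
  | zero => exact ringKrullDim_nonneg_of_nontrivial
  | succ m ih =>
    rw [ringKrullDim_eq_of_ringEquiv (MvPowerSeries.finSuccEquiv K m).toRingEquiv, Nat.cast_succ]
    exact le_trans (add_le_add ih le_rfl) ringKrullDim_succ_le_ringKrullDim_powerseries

theorem spanFinrank_maximalIdeal_le (m : ℕ) :
    (IsLocalRing.maximalIdeal (MvPowerSeries (Fin m) K)).spanFinrank ≤ m := by
  rw [maximalIdeal_eq, augIdeal_eq_span]
  refine (Submodule.spanFinrank_span_le_ncard_of_finite (Set.finite_range _)).trans ?_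
  rw [← Set.image_univ]
  exact (Set.ncard_image_le).trans (by simp)

instance isRegularLocalRing (m : ℕ) : IsRegularLocalRing (MvPowerSeries (Fin m) K) := by
  refine IsRegularLocalRing.of_spanFinrank_maximalIdeal_le _ ?_
  exact (Nat.cast_le.2 (spanFinrank_maximalIdeal_le K m)).trans (le_ringKrullDim K m)

theorem ringKrullDim_eq (m : ℕ) : ringKrullDim (MvPowerSeries (Fin m) K) = m := by
  refine le_antisymm ?_ (le_ringKrullDim K m)
  rw [CAlgReg.dim_eq_spanFinrank]
  exact Nat.cast_le.2 (spanFinrank_maximalIdeal_le K m)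

end Groth.Agent.MvPSLib
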