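import Mathlib
import Groth.Agent.MvPSLib.Basic
import Groth.Agent.FSAdic.PowerSeries

/-! Evaluation of power series in complete rings; structure of complete local algebras with residue
field equal to the base field. -/

set_option autoImplicit false
set_option linter.style.haveILetI false

namespace Groth.Agent.MvPSLib

open MvPowerSeries Groth.Agent.FSAdic IsLocalRing

universe u

theorem isHausdorff_mono {R : Type*} [CommRing R] {I J : Ideal R} {M : Type*} [AddCommGroup M]
    [Module R M] (h : I ≤ J) (hJ : IsHausdorff J M) : IsHausdorff I M :=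
  ⟨fun x hx => hJ.haus' x fun n => (hx n).mono (Submodule.smul_mono_left (Ideal.pow_right_mono h n))⟩

theorem exists_algHom {A B : Type*} [CommRing A] [CommRing B] [Algebra A B] (J : Ideal B)
    [IsAdicComplete J B] {n : ℕ} (z : Fin n → B) (hz : ∀ i, z i ∈ J) :
    ∃ ψ : MvPowerSeries (Fin n) A →ₐ[A] B, ∀ i, ψ (X i) = z i := by
  have hN : ∀ N, Ideal.span (Set.range fun i => Ideal.Quotient.mk (J ^ N) (z i)) ^ N = ⊥ := by
    intro N
    rw [eq_bot_iff]
    refine le_trans (Ideal.pow_right_mono (J := J.map (Ideal.Quotient.mk (J ^ N))) ?_ N) ?_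
    · rw [Ideal.span_le]
      rintro _ ⟨i, rfl⟩
      exact Ideal.mem_map_of_mem _ (hz i)
    · rw [← Ideal.map_pow, Ideal.map_quotient_self]
  let f : (N : ℕ) → MvPowerSeries (Fin n) A →ₐ[A] B ⧸ J ^ N := fun N => evalNilp _ N (hN N)
  have hvan : ∀ N, ∀ x ∈ augIdeal A n ^ N, f N x = 0 := by
    intro N x hx
    have h1 : (augIdeal A n).map (f N) ≤
        Ideal.span (Set.range fun i => Ideal.Quotient.mk (J ^ N) (z i)) := by
      rw [Ideal.map_le_iff_le_comap]
      exact fun p hp => evalNilp_mem _ N (hN N) hp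
    have h2 := Ideal.pow_right_mono h1 N
      (Ideal.map_pow (f N) (augIdeal A n) N ▸ Ideal.mem_map_of_mem (f N) hx)
    rwa [hN, Ideal.mem_bot] at h2
  have hf : ∀ {m k : ℕ} (hle : m ≤ k),
      (Ideal.Quotient.factorₐ A (Ideal.pow_le_pow_right hle : J ^ k ≤ J ^ m)).comp (f k) = f m := by
    intro m k hle
    refine algHom_ext_of_vanish k (fun x hx => ?_) (fun x hx => ?_) fun i => ?_
    · rw [AlgHom.comp_apply, hvan k x hx, map_zero]
    · exact hvan m x (Ideal.pow_le_pow_right hle hx)
    · rw [AlgHom.comp_apply]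
      simp only [f, evalNilp_X]
      rfl
  refine ⟨IsAdicComplete.liftAlgHom J f hf, fun i => ?_⟩
  refine sub_eq_zero.1 (IsHausdorff.haus' (I := J) _ fun N => ?_)
  rw [SModEq.zero, smul_eq_mul, Ideal.mul_top, ← Ideal.Quotient.eq_zero_iff_mem, map_sub, sub_eq_zero,
    IsAdicComplete.mk_liftAlgHom]
  exact evalNilp_X _ N (hN N) i

theorem map_augIdeal {A B : Type*} [CommRing A] [CommRing B] [Algebra A B] {n : ℕ}
    (ψ : MvPowerSeries (Fin n) A →ₐ[A] B) :
    (augIdeal A n).map ψ = Ideal.span (Set.range fun i => ψ (X i)) := by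
  rw [augIdeal_eq_span, Ideal.map_span, ← Set.range_comp]
  rfl

section field

variable {k : Type u} [Field k] {R : Type u} [CommRing R] [IsLocalRing R] [IsNoetherianRing R]
  [Algebra k R]

theorem span_eq_maximalIdeal {d : ℕ} {b : Fin d → R} (hb : ∀ i, b i ∈ maximalIdeal R)
    (hsp : Submodule.span (ResidueField R)
      (Set.range fun i => (maximalIdeal R).toCotangent ⟨b i, hb i⟩) = ⊤) :
    Ideal.span (Set.range b) = maximalIdeal R := by
  have h1 : Submodule.span R (Set.range fun i => (⟨b i, hb i⟩ : maximalIdeal R)) = ⊤ := by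
    rw [← CotangentSpace.span_image_eq_top_iff, ← Set.range_comp]
    exact hsp
  have h2 := congrArg (Submodule.map (maximalIdeal R).subtype) h1
  rw [Submodule.map_span, Submodule.map_top, Submodule.range_subtype, ← Set.range_comp] at h2
  exact h2

theorem surjective_of_span [IsAdicComplete (maximalIdeal R) R]
    (hR : Function.Surjective ((residue R).comp (algebraMap k R)))
    {d : ℕ} (ψ : MvPowerSeries (Fin d) k →ₐ[k] R)
    (hsp : Ideal.span (Set.range fun i => ψ (X i)) = maximalIdeal R) : Function.Surjective ψ := by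
  haveI : IsHausdorff ((augIdeal k d).map ψ.toRingHom) R := by
    change IsHausdorff ((augIdeal k d).map ψ) R
    rw [map_augIdeal, hsp]; infer_instance
  refine surjective_of_mod ψ.toRingHom fun b => ?_
  obtain ⟨a, ha⟩ := hR (residue R b)
  refine ⟨a, ?_⟩
  change b - ψ (C a) ∈ (augIdeal k d).map ψ
  rw [map_augIdeal, hsp, ← residue_eq_zero_iff, map_sub, sub_eq_zero, ← ha,
    show ψ (C a) = algebraMap k R a from ψ.commutes a]
  rfl

/-- A surjection from a power series ring in `dim R` variables onto a local ring is bijective. -/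
theorem bijective_of_dim {d : ℕ} (ψ : MvPowerSeries (Fin d) k →ₐ[k] R) (hs : Function.Surjective ψ)
    (hd : ringKrullDim R = d) : Function.Bijective ψ := by
  refine ⟨(injective_iff_map_eq_zero ψ).2 fun x hx => ?_, hs⟩
  by_contra hx0
  haveI := CAlgReg.isDomain (R := MvPowerSeries (Fin d) k)
  have h1 := ringKrullDim_quotient_succ_le_of_nonZeroDivisor (mem_nonZeroDivisors_of_ne_zero hx0)
  rw [ringKrullDim_eq k d] at h1
  have h2 : ringKrullDim R ≤ ringKrullDim (MvPowerSeries (Fin d) k ⧸ Ideal.span {x}) := by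
    refine ringKrullDim_le_of_surjective (Ideal.Quotient.lift (Ideal.span {x}) ψ.toRingHom ?_) ?_
    · intro a ha
      obtain ⟨c, rfl⟩ := Ideal.mem_span_singleton.1 ha
      show ψ (x * c) = 0
      rw [map_mul, hx, zero_mul]
    · intro r
      obtain ⟨a, rfl⟩ := hs r
      exact ⟨Ideal.Quotient.mk _ a, rfl⟩
  rw [hd] at h2
  have h3 : (d : WithBot ℕ∞) + 1 ≤ d := le_trans (add_le_add h2 le_rfl) h1
  have h4 : d + 1 ≤ d := by exact_mod_cast h3
  omega

omit [IsNoetherianRing R] in
theorem isRegularLocalRing_of_bijective {d : ℕ} (ψ : MvPowerSeries (Fin d) k →ₐ[k] R)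
    (hb : Function.Bijective ψ) : IsRegularLocalRing R :=
  IsRegularLocalRing.of_ringEquiv (AlgEquiv.ofBijective ψ hb).toRingEquiv

theorem exists_algEquiv [IsRegularLocalRing R] [IsAdicComplete (maximalIdeal R) R]
    (hR : Function.Surjective ((residue R).comp (algebraMap k R))) :
    ∃ d : ℕ, Nonempty (R ≃ₐ[k] MvPowerSeries (Fin d) k) := by
  obtain ⟨d, hd⟩ := CAlgReg.exists_dim (R := R)
  obtain ⟨s, hcard, hs⟩ := Submodule.FG.exists_span_finset_card_eq_spanFinrank
    (maximalIdeal R).fg_of_isNoetherianRing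
  rw [CAlgReg.spanFinrank_eq_of_dim hd] at hcard
  let e : Fin d ≃ s := (Fintype.equivFinOfCardEq (by simp [hcard])).symm
  have hz : ∀ i, (e i : R) ∈ maximalIdeal R := fun i => hs ▸ Submodule.subset_span (e i).2
  obtain ⟨ψ, hψ⟩ := exists_algHom (A := k) (maximalIdeal R) (fun i => (e i : R)) hz
  have hsp : Ideal.span (Set.range fun i => ψ (X i)) = maximalIdeal R := by
    rw [← hs]
    congr 1
    ext y
    constructor
    · rintro ⟨i, rfl⟩; simp only [hψ]; exact (e i).2
    · intro hy; exact ⟨e.symm ⟨y, hy⟩, by simp [hψ]⟩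
  exact ⟨d, ⟨(AlgEquiv.ofBijective ψ
    (bijective_of_dim ψ (surjective_of_span hR ψ hsp) hd)).symm⟩⟩

end field

end Groth.Agent.MvPSLib
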